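import Cfsg.Agent.H822.Cls.Props
import Cfsg.Agent.Lib.CoprimeCommutator

/-!
# The nonsolvable part of S4148

`nonsolv_object : NonabObject → TwoPrimes → NonsolvObject`
-/

set_option autoImplicit false

namespace Cfsg.Agent.H528.Cls

open scoped Pointwise commutatorElement
open Cfsg.Agent.H822.Cls

universe u

theorem moved_of_le {G : Type*} [Group G] {p : ℕ} {x y : G}
    (h : Subgroup.centralizer ({x} : Set G) ≤ Subgroup.centralizer ({y} : Set G)) (hy : Moved p y) : Moved p x :=
  dvd_trans hy (Subgroup.index_dvd_of_le h)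

theorem not_moved_one {G : Type*} [Group G] {p : ℕ} (hp : p.Prime) : ¬ Moved p (1 : G) := by
  intro h
  unfold Moved at h
  have h1 : Subgroup.centralizer ({1} : Set G) = ⊤ := by
    rw [eq_top_iff]
    intro g _
    rw [Subgroup.mem_centralizer_singleton_iff, mul_one, one_mul]
  rw [h1, Subgroup.index_top] at h
  exact hp.one_lt.ne' (Nat.dvd_one.1 h)

theorem moved_of_map {G G' : Type*} [Group G] [Group G'] (f : G →* G') (hf : Function.Surjective f) {p : ℕ} {x : G}
    (h : Moved p (f x)) : Moved p x := by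
  unfold Moved at h ⊢
  refine dvd_trans h ?_
  rw [← Subgroup.index_comap_of_surjective _ hf]
  refine Subgroup.index_dvd_of_le ?_
  intro g hg
  rw [Subgroup.mem_centralizer_singleton_iff] at hg
  rw [Subgroup.mem_comap, Subgroup.mem_centralizer_singleton_iff, ← map_mul, ← map_mul, hg]

/-- a minimal normal subgroup below a given one -/
theorem exists_minimal {G : Type*} [Group G] [Finite G] : ∀ (n : ℕ) (N : Subgroup G), N.Normal → Nat.card N ≤ n →
    N ≠ ⊥ → ∃ M ≤ N, M.Normal ∧ M ≠ ⊥ ∧ ∀ N' : Subgroup G, N'.Normal → N' ≤ M → N' = ⊥ ∨ N' = M := by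
  intro n
  induction n with
  | zero =>
    intro N _ h _
    have : 0 < Nat.card N := Nat.card_pos
    omega
  | succ n ih =>
    intro N hN hn hne
    by_cases h : ∀ N' : Subgroup G, N'.Normal → N' ≤ N → N' = ⊥ ∨ N' = N
    · exact ⟨N, le_rfl, hN, hne, h⟩
    · push Not at h
      obtain ⟨N', hN', hle, hb, ht⟩ := h
      have hlt : Nat.card N' < Nat.card N := by
        by_contra hcon
        exact ht (Subgroup.eq_of_le_of_card_ge hle (not_lt.1 hcon))
      obtain ⟨M, hM, h1⟩ := ih N' hN' (by omega) hb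
      exact ⟨M, hM.trans hle, h1⟩

theorem split_map {G G' : Type*} [Group G] [Group G'] [Finite G] (f : G →* G') (hf : Function.Surjective f)
    {K H : Subgroup G} (hS : Split K H) : Split (K.map f) (H.map f) where
  normal := hS.normal.map f hf
  comm := by
    rintro _ ⟨a, ha, rfl⟩ _ ⟨b, hb, rfl⟩
    rw [← map_mul, hS.comm a ha b hb, map_mul]
  cop := Nat.Coprime.of_dvd (Subgroup.card_map_dvd K f) (Subgroup.card_map_dvd H f) hS.cop
  compl := by rw [← Subgroup.map_sup, hS.compl, ← MonoidHom.range_eq_map, MonoidHom.range_eq_top.2 hf]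

theorem card_map_mul {G G' : Type*} [Group G] [Group G'] (f : G →* G') (Q : Subgroup G) :
    Nat.card (Q.map f) * Nat.card (f.ker ⊓ Q : Subgroup G) = Nat.card Q := by
  have h1 : (f.comp Q.subtype).range = Q.map f := by
    rw [MonoidHom.range_comp, Subgroup.range_subtype]
  have h2 : Nat.card (f.comp Q.subtype).ker = Nat.card (f.ker ⊓ Q : Subgroup G) := by
    rw [← Subgroup.subgroupOf_map_subtype, Subgroup.card_map_of_injective Q.subtype_injective]
    rfl
  rw [← h1, ← h2, ← Subgroup.index_ker, mul_comm, Subgroup.card_mul_index]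

theorem isSolvable_of_map {G G' : Type*} [Group G] [Group G'] (f : G →* G')
    (hab : ∀ a ∈ f.ker, ∀ b ∈ f.ker, a * b = b * a) (Q : Subgroup G) (h : Group.IsSolvable (Q.map f)) :
    Group.IsSolvable Q := by
  have h1 : (f.comp Q.subtype).range = Q.map f := by
    rw [MonoidHom.range_comp, Subgroup.range_subtype]
  have h2 : Group.IsSolvable (f.comp Q.subtype).range := by rw [h1]; exact h
  have h3 : Group.IsSolvable (f.comp Q.subtype).ker := by
    refine Group.isSolvable_of_comm ?_
    rintro ⟨⟨a, ha⟩, ha'⟩ ⟨⟨b, hb⟩, hb'⟩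
    exact Subtype.ext (Subtype.ext (hab a ha' b hb'))
  exact Group.isSolvable_of_ker_le_range (f.comp Q.subtype).ker.subtype (f.comp Q.subtype).rangeRestrict (by
    rw [Subgroup.range_subtype, MonoidHom.ker_rangeRestrict])

/-- the induction -/
theorem nonsolv_aux (h1 : NonabObject.{u}) (h2 : TwoPrimes.{u}) : ∀ (n : ℕ) (G : Type u) [Group G] [Finite G]
    (K H K₀ : Subgroup G), Split K H → K₀ ≤ K → K₀.Normal → Nat.card K₀ ≤ n →
    ∃ x ∈ K₀, (∀ p : ℕ, p.Prime → p ∣ Nat.card H → ∀ P : Sylow p G,
      ¬ Group.IsSolvable (⁅K₀, (P : Subgroup G)⁆ : Subgroup G) → Moved p x) ∧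
      ((∃ p : ℕ, p.Prime ∧ p ∣ Nat.card H ∧ ∃ P : Sylow p G,
        ¬ Group.IsSolvable (⁅K₀, (P : Subgroup G)⁆ : Subgroup G)) →
      ∃ q₁ q₂ : ℕ, q₁.Prime ∧ q₂.Prime ∧ q₁ ≠ q₂ ∧ q₁ ∣ Nat.card K ∧ q₂ ∣ Nat.card K ∧ Moved q₁ x ∧ Moved q₂ x) := by
  intro n
  induction n with
  | zero =>
    intro G _ _ K H K₀ hS hK hn hc
    have : 0 < Nat.card K₀ := Nat.card_pos
    omega
  | succ n ih =>
    intro G _ _ K H K₀ hS hK hKn hc
    by_cases hbot : K₀ = ⊥
    · subst hbot
      have hsol : ∀ Q : Subgroup G, Group.IsSolvable (⁅(⊥ : Subgroup G), Q⁆ : Subgroup G) := by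
        intro Q
        rw [Subgroup.commutator_bot_left]
        infer_instance
      exact ⟨1, one_mem _, fun p _ _ P h => absurd (hsol P) h, fun ⟨p, _, _, P, h⟩ => absurd (hsol P) h⟩
    obtain ⟨M, hM, hMn, hMne, hmin⟩ := exists_minimal (Nat.card K₀) K₀ hKn le_rfl hbot
    have hKnn := hS.normal
    by_cases hab : IsMulCommutative M
    · -- pass to `G ⧸ M`
      have hf : Function.Surjective (QuotientGroup.mk' M) := QuotientGroup.mk'_surjective M
      have hker : (QuotientGroup.mk' M).ker = M := QuotientGroup.ker_mk' M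
      have hcard : Nat.card (K₀.map (QuotientGroup.mk' M)) ≤ n := by
        have h := card_map_mul (QuotientGroup.mk' M) K₀
        rw [hker, inf_of_le_left hM] at h
        have h3 : 1 < Nat.card M := (Subgroup.one_lt_card_iff_ne_bot M).2 hMne
        have h4 : 0 < Nat.card (K₀.map (QuotientGroup.mk' M)) := Nat.card_pos
        by_contra hcon
        have : Nat.card (K₀.map (QuotientGroup.mk' M)) * 2 ≤ Nat.card K₀ := by
          rw [← h]
          exact Nat.mul_le_mul_left _ h3
        omega
      obtain ⟨x', ⟨x, hx, rfl⟩, i1, i2⟩ := ih (G ⧸ M) (K.map (QuotientGroup.mk' M)) (H.map (QuotientGroup.mk' M))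
        (K₀.map (QuotientGroup.mk' M)) (split_map _ hf hS) (Subgroup.map_mono hK) (hKn.map _ hf) hcard
      have hpH : ∀ p : ℕ, p.Prime → p ∣ Nat.card H → p ∣ Nat.card (H.map (QuotientGroup.mk' M)) := by
        intro p hp hpd
        rw [← card_map_mul (QuotientGroup.mk' M) H, hker] at hpd
        refine (hp.dvd_mul.1 hpd).resolve_right fun h => ?_
        have a1 : p ∣ Nat.card K := h.trans ((Subgroup.card_dvd_of_le inf_le_left).trans
          (Subgroup.card_dvd_of_le (hM.trans hK)))
        have a2 : p ∣ Nat.card H := h.trans (Subgroup.card_dvd_of_le inf_le_right)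
        exact Nat.not_coprime_of_dvd_of_dvd hp.one_lt a1 a2 hS.cop
      have hsol : ∀ (p : ℕ) (hp : p.Prime) (P : Sylow p G),
          ¬ Group.IsSolvable (⁅K₀, (P : Subgroup G)⁆ : Subgroup G) → ∃ P' : Sylow p (G ⧸ M),
          ¬ Group.IsSolvable (⁅K₀.map (QuotientGroup.mk' M), (P' : Subgroup (G ⧸ M))⁆ : Subgroup (G ⧸ M)) := by
        intro p hp P h
        have := Fact.mk hp
        refine ⟨P.mapSurjective hf, fun hcon => h ?_⟩
        rw [Sylow.coe_mapSurjective, ← Subgroup.map_commutator] at hcon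
        refine isSolvable_of_map _ (fun a ha b hb => ?_) _ hcon
        rw [hker] at ha hb
        have := hab.is_comm.comm (⟨a, ha⟩ : M) ⟨b, hb⟩
        exact congrArg Subtype.val this
      refine ⟨x, hx, fun p hp hpd P hP => ?_, ?_⟩
      · obtain ⟨P', hP'⟩ := hsol p hp P hP
        exact moved_of_map _ hf (i1 p hp (hpH p hp hpd) P' hP')
      · rintro ⟨p, hp, hpd, P, hP⟩
        obtain ⟨P', hP'⟩ := hsol p hp P hP
        obtain ⟨q₁, q₂, b1, b2, b3, b4, b5, b6, b7⟩ := i2 ⟨p, hp, hpH p hp hpd, P', hP'⟩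
        exact ⟨q₁, q₂, b1, b2, b3, b4.trans (Subgroup.card_map_dvd K _), b5.trans (Subgroup.card_map_dvd K _),
          moved_of_map _ hf b6, moved_of_map _ hf b7⟩
    · -- nonabelian
      have hCn : (Subgroup.centralizer (M : Set G)).Normal := Subgroup.normal_centralizer
      have hMC : M ⊓ Subgroup.centralizer (M : Set G) = ⊥ := by
        rcases hmin (M ⊓ Subgroup.centralizer (M : Set G)) (Subgroup.normal_inf_normal M _) inf_le_left with h | h
        · exact h
        · exfalso
          apply hab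
          rw [inf_eq_left] at h
          exact ⟨⟨fun a b => Subtype.ext ((Subgroup.mem_centralizer_iff.1 (h b.2)) a a.2)⟩⟩
      obtain ⟨C₀, hC₀⟩ : ∃ C₀, C₀ = K₀ ⊓ Subgroup.centralizer (M : Set G) := ⟨_, rfl⟩
      have hC₀n : C₀.Normal := by
        rw [hC₀]
        exact Subgroup.normal_inf_normal K₀ _
      have hcard : Nat.card C₀ ≤ n := by
        have hle : C₀ ≤ K₀ := by rw [hC₀]; exact inf_le_left
        have hne : C₀ ≠ K₀ := by
          intro h
          have h5 : M ≤ Subgroup.centralizer (M : Set G) := by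
            intro g hg
            have := hM hg
            rw [← h, hC₀] at this
            exact this.2
          rw [inf_eq_left.2 h5] at hMC
          exact hMne hMC
        have h6 : Nat.card C₀ < Nat.card K₀ := by
          by_contra hcon
          exact hne (Subgroup.eq_of_le_of_card_ge hle (not_lt.1 hcon))
        omega
      obtain ⟨y, hy, i1, i2⟩ := ih G K H C₀ hS ((by rw [hC₀]; exact inf_le_left : C₀ ≤ K₀).trans hK) hC₀n hcard
      obtain ⟨x, hx, j1⟩ := h1 G K H M hS (hM.trans hK) hMn hmin hab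
      have hyC : y ∈ Subgroup.centralizer (M : Set G) := by rw [hC₀] at hy; exact hy.2
      have hyK : y ∈ K₀ := by rw [hC₀] at hy; exact hy.1
      have key : ∀ g ∈ Subgroup.centralizer ({x * y} : Set G), g * x = x * g ∧ g * y = y * g := by
        intro g hg
        rw [Subgroup.mem_centralizer_singleton_iff] at hg
        have e1 : x⁻¹ * (g * x * g⁻¹) = y * (g * y * g⁻¹)⁻¹ := by
          have : g * x * g⁻¹ * (g * y * g⁻¹) = x * y := by
            calc g * x * g⁻¹ * (g * y * g⁻¹) = g * (x * y) * g⁻¹ := by group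
              _ = x * y := by rw [hg]; group
          calc x⁻¹ * (g * x * g⁻¹) = x⁻¹ * (g * x * g⁻¹ * (g * y * g⁻¹)) * (g * y * g⁻¹)⁻¹ := by group
            _ = y * (g * y * g⁻¹)⁻¹ := by rw [this]; group
        have e2 : x⁻¹ * (g * x * g⁻¹) ∈ M ⊓ Subgroup.centralizer (M : Set G) := by
          refine ⟨M.mul_mem (M.inv_mem hx) (hMn.conj_mem x hx g), ?_⟩
          rw [e1]
          exact Subgroup.mul_mem _ hyC (Subgroup.inv_mem _ (hCn.conj_mem y hyC g))
        rw [hMC, Subgroup.mem_bot] at e2
        have e3 : g * x * g⁻¹ = x := by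
          rw [inv_mul_eq_one] at e2
          exact e2.symm
        have e4 : g * y * g⁻¹ = y := by
          rw [e2] at e1
          exact (mul_inv_eq_one.1 e1.symm).symm
        exact ⟨mul_inv_eq_iff_eq_mul.1 e3, mul_inv_eq_iff_eq_mul.1 e4⟩
      have mx : ∀ {p : ℕ}, Moved p x → Moved p (x * y) := fun h => moved_of_le (fun g hg => by
        rw [Subgroup.mem_centralizer_singleton_iff]
        exact (key g hg).1) h
      have my : ∀ {p : ℕ}, Moved p y → Moved p (x * y) := fun h => moved_of_le (fun g hg => by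
        rw [Subgroup.mem_centralizer_singleton_iff]
        exact (key g hg).2) h
      have hyp : ∀ (p : ℕ) (hp : p.Prime) (hpd : p ∣ Nat.card H) (P : Sylow p G),
          ¬ Group.IsSolvable (⁅K₀, (P : Subgroup G)⁆ : Subgroup G) →
          (P : Subgroup G) ≤ Subgroup.centralizer (M : Set G) →
          ¬ Group.IsSolvable (⁅C₀, (P : Subgroup G)⁆ : Subgroup G) := by
        intro p hp hpd P hP hPM hcon
        apply hP
        have := Fact.mk hp
        have hle : ⁅K₀, (P : Subgroup G)⁆ ≤ C₀ := by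
          rw [hC₀]
          refine le_inf (Subgroup.commutator_le_left K₀ _) ?_
          exact (Subgroup.commutator_mono le_rfl hPM).trans (Subgroup.commutator_le_right K₀ _)
        have hcop : (Nat.card (P : Subgroup G)).Coprime (Nat.card K₀) := by
          obtain ⟨k, hk⟩ := IsPGroup.iff_card.1 P.isPGroup'
          change (Nat.card (P : Subgroup G)).Coprime (Nat.card K₀)
          have hk' : Nat.card (P : Subgroup G) = p ^ k := hk
          rw [hk']
          refine Nat.Coprime.pow_left k ((Nat.Prime.coprime_iff_not_dvd hp).2 fun h => ?_)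
          exact Nat.not_coprime_of_dvd_of_dvd hp.one_lt (h.trans (Subgroup.card_dvd_of_le hK)) hpd hS.cop
        have heq := Lib.CoprimeCommutator.commutator_commutator_eq (P : Subgroup G) K₀
          (by rw [Subgroup.normalizer_eq_top]; exact le_top) hcop
        have hle2 : ⁅K₀, (P : Subgroup G)⁆ ≤ ⁅C₀, (P : Subgroup G)⁆ := by
          rw [← heq]
          exact Subgroup.commutator_mono hle le_rfl
        exact Group.isSolvable_of_isSolvable_injective (Subgroup.inclusion_injective hle2)
      refine ⟨x * y, K₀.mul_mem (hM hx) hyK, fun p hp hpd P hP => ?_, ?_⟩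
      · by_cases hPM : (P : Subgroup G) ≤ Subgroup.centralizer (M : Set G)
        · exact my (i1 p hp hpd P (hyp p hp hpd P hP hPM))
        · exact mx (j1 p hp hpd P hPM)
      · rintro ⟨p, hp, hpd, P, hP⟩
        by_cases hPM : (P : Subgroup G) ≤ Subgroup.centralizer (M : Set G)
        · obtain ⟨q₁, q₂, b1, b2, b3, b4, b5, b6, b7⟩ := i2 ⟨p, hp, hpd, P, hyp p hp hpd P hP hPM⟩
          exact ⟨q₁, q₂, b1, b2, b3, b4, b5, my b6, my b7⟩
        · have hx1 : x ≠ 1 := by
            rintro rfl
            exact not_moved_one hp (j1 p hp hpd P hPM)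
          obtain ⟨q₁, q₂, b1, b2, b3, b4, b5, b6, b7⟩ := h2 G M hMn hmin hab x hx hx1
          have hd := Subgroup.card_dvd_of_le (hM.trans hK)
          exact ⟨q₁, q₂, b1, b2, b3, b4.trans hd, b5.trans hd, mx b6, mx b7⟩

theorem nonsolv_object (h1 : NonabObject.{u}) (h2 : TwoPrimes.{u}) : NonsolvObject.{u} := by
  intro G _ _ K H hS
  exact nonsolv_aux h1 h2 (Nat.card K) G K H K hS le_rfl hS.normal le_rfl

end Cfsg.Agent.H528.Cls
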